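import Mathlib

/-! Klinger–Mason: the final module argument over `𝔽₂`. -/

set_option autoImplicit false

namespace Cfsg.Agent.KM

variable {H M : Type*} [Group H] [AddCommGroup M] (ρ : Representation ℤ H M)

theorem rep_mul (g h : H) (m : M) : ρ (g * h) m = ρ g (ρ h m) := by rw [map_mul]; rfl

theorem rep_one (m : M) : ρ 1 m = m := by rw [map_one]; rfl

theorem rep_inj (g : H) {m m' : M} (h : ρ g m = ρ g m') : m = m' := by
  have := congrArg (ρ g⁻¹) h
  rwa [← rep_mul, ← rep_mul, inv_mul_cancel, rep_one, rep_one] at this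

/-- `t` is a transvection (or trivial). -/
theorem transvection (h2 : ∀ m : M, m + m = 0) {p : ℕ} (hp : Odd p) {i t b : H} (hi : i * i = t)
    (ht : t * t = 1) (hb : b ^ p = 1) (hbt : Commute b t) (N : M → Prop)
    (hN : ∀ m m', ρ t m = m → ρ t m' = m' → N m ∨ N m' ∨ N (m + m'))
    (hNi : ∀ m, N m → ρ i m = m) (hNb : ∀ m, N m → N (ρ b m))
    (hK : ∀ K : Subgroup H, (∀ g, Commute g t → ∀ k ∈ K, g * k * g⁻¹ ∈ K) → b ∈ K → i ∈ K) :
    ∃ l, ρ t l = l ∧ ∀ m, ρ t m = m ∨ ρ t m = m + l := by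
  have eq_of : ∀ x y : M, x + y = 0 → x = y := fun x y h => by
    have : x + y + y = y := by rw [h, zero_add]
    rwa [add_assoc, h2, add_zero] at this
  let f : M → M := fun m => ρ i m + m
  let τ : M → M := fun m => ρ t m + m
  have f_add : ∀ m m', f (m + m') = f m + f m' := fun m m' => by
    simp only [f, map_add]; abel
  have τ_add : ∀ m m', τ (m + m') = τ m + τ m' := fun m m' => by
    simp only [τ, map_add]; abel
  have ff : ∀ m, f (f m) = τ m := fun m => by
    simp only [f, τ, map_add, ← rep_mul, hi]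
    rw [show ρ t m + ρ i m + (ρ i m + m) = ρ t m + m + (ρ i m + ρ i m) by abel, h2, add_zero]
  have ττ : ∀ m, τ (τ m) = 0 := fun m => by
    simp only [τ, map_add, ← rep_mul, ht, rep_one]
    rw [show m + ρ t m + (ρ t m + m) = (m + m) + (ρ t m + ρ t m) by abel, h2, h2, add_zero]
  have fix : ∀ m, τ m = 0 → ρ t m = m := fun m h => eq_of _ _ h
  have fN : ∀ m, N m → f m = 0 := fun m h => by simp only [f, hNi m h, h2]
  have L : ∀ m m', f (f m) = 0 → f (f m') = 0 → f m ≠ 0 → f m' ≠ 0 → f m = f m' := by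
    intro m m' h h' n n'
    rw [ff] at h h'
    rcases hN m m' (fix m h) (fix m' h') with e | e | e
    · exact absurd (fN _ e) n
    · exact absurd (fN _ e) n'
    · exact eq_of _ _ (by rw [← f_add]; exact fN _ e)
  have τc : ∀ g, Commute g t → ∀ m, ρ g (τ m) = τ (ρ g m) := fun g hg m => by
    simp only [τ, map_add, ← rep_mul, hg.eq]
  have hit : Commute i t := by rw [← hi]; exact (Commute.refl i).mul_right (Commute.refl i)
  have fτ : ∀ m, f (τ m) = τ (f m) := fun m => by rw [← ff, ← ff]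
  have main : ∀ m, f (τ m) = 0 := by
    intro m0
    by_contra hl
    set w := τ m0 with hw
    set l := f w with hldef
    have fl : f l = 0 := by rw [hldef, ff, hw, ττ]
    -- elements of `W` killed by `f`
    have k0 : ∀ m, f (τ m) = 0 → τ m = 0 ∨ τ m = l := fun m h => by
      by_cases e : τ m = 0
      · exact Or.inl e
      · right
        rw [← ff] at h e ⊢
        exact L _ _ h fl e hl
    have k1 : ∀ m, f (τ m) = 0 ∨ f (τ m) = l := fun m => by
      by_cases e : f (τ m) = 0
      · exact Or.inl e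
      · exact Or.inr (L _ _ (by rw [ff, ττ]) fl e hl)
    have k2 : ∀ m, f (τ m) = l → τ m = w ∨ τ m = w + l := fun m h => by
      have : f (τ (m + m0)) = 0 := by rw [τ_add, f_add, h, ← hw, ← hldef, h2]
      rcases k0 _ this with e | e
      · rw [τ_add] at e; exact Or.inl (eq_of _ _ e)
      · right
        rw [τ_add, ← hw] at e
        rw [← e, add_comm (τ m), ← add_assoc, h2, zero_add]
    have lτ : l = τ (f m0) := by rw [hldef, hw, fτ]
    have lN : N l := by
      rcases hN w l (fix _ (ττ m0)) (fix _ (by rw [lτ, ττ])) with e | e | e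
      · exact absurd (fN _ e) hl
      · exact e
      · have := fN _ e
        rw [f_add, fl, add_zero] at this
        exact absurd this hl
    have bl : ρ b l = l := by
      have e1 : ρ b l = τ (ρ b (f m0)) := by rw [lτ, τc b hbt]
      rcases k0 (ρ b (f m0)) (by rw [← e1]; exact fN _ (hNb _ lN)) with e | e
      · rw [← e1] at e
        exact absurd (rep_inj ρ b (e.trans (map_zero _).symm)) hl
      · rw [e1, e]
    have bw : ρ b w = w := by
      have e1 : ρ b w = τ (ρ b m0) := by rw [hw, τc b hbt]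
      rcases k1 (ρ b m0) with e | e
      · rcases k0 _ e with e' | e'
        · rw [← e1] at e'
          have : w = 0 := rep_inj ρ b (e'.trans (map_zero _).symm)
          exact absurd (by rw [hldef, this]; simp [f]) hl
        · rw [← e1, ← bl] at e'
          have : w = l := rep_inj ρ b e'
          exact absurd (by rw [hldef, this, fl]) hl
      · rcases k2 _ e with e' | e'
        · rw [e1, e']
        · rw [← e1] at e'
          have : ∀ n : ℕ, ρ (b ^ n) w = w + n • l := fun n => by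
            induction n with
            | zero => simp
            | succ n ih =>
              rw [pow_succ', rep_mul, ih, map_add, e', map_nsmul, bl, succ_nsmul]; abel
          have h3 := this p
          obtain ⟨k, rfl⟩ := hp
          rw [hb, rep_one, add_nsmul, mul_comm, mul_nsmul', two_nsmul, one_nsmul,
            show k • (l + l) = 0 by rw [h2, nsmul_zero], zero_add] at h3
          exact absurd (by simpa using h3) hl
    let K : Subgroup H :=
      { carrier := {g | ∀ m, ρ g (τ m) = τ m}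
        mul_mem' := fun {x y} hx hy m => by rw [rep_mul, hy, hx]
        one_mem' := fun m => rep_one ρ _
        inv_mem' := fun {x} hx m => rep_inj ρ x (by
          rw [← rep_mul, mul_inv_cancel, rep_one, hx]) }
    have hiK : i ∈ K := by
      refine hK K (fun g hg k hk m => ?_) (fun m => ?_)
      · rw [rep_mul, rep_mul, τc _ hg.inv_left, hk, τc _ hg, ← rep_mul, mul_inv_cancel, rep_one]
      · rcases k1 m with e | e
        · rcases k0 m e with e' | e' <;> rw [e']
          · exact map_zero _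
          · exact bl
        · rcases k2 m e with e' | e' <;> rw [e']
          · exact bw
          · rw [map_add, bw, bl]
    exact hl (by simp only [hldef, f, hw]; rw [hiK m0, h2])
  by_cases h0 : ∀ m, τ m = 0
  · exact ⟨0, map_zero _, fun m => Or.inl (fix m (h0 m))⟩
  · push Not at h0
    obtain ⟨m0, hm0⟩ := h0
    refine ⟨τ m0, fix _ (ττ m0), fun m => ?_⟩
    by_cases e : τ m = 0
    · exact Or.inl (fix m e)
    · right
      have : τ m = τ m0 := by
        rw [← ff] at e hm0 ⊢
        rw [← ff m0]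
        exact L _ _ (by rw [ff, ← fτ, main]) (by rw [ff, ← fτ, main]) e hm0
      rw [← this]
      simp only [τ]
      rw [add_comm (ρ t m), ← add_assoc, h2, zero_add]

/-- A transvection inverting two generators of an odd `p`-group `Y` acting faithfully forces
`|Y| ≤ p`. -/
theorem transvection_false [Finite H] (h2 : ∀ m : M, m + m = 0) {p : ℕ} [hp : Fact p.Prime]
    (hp2 : p ≠ 2) {t y y' : H} {l : M} (hl : ρ t l = l) (ht : ∀ m, ρ t m = m ∨ ρ t m = m + l)
    (hy : t * y * t⁻¹ = y⁻¹) (hy' : t * y' * t⁻¹ = y'⁻¹) (htt : t * t = 1)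
    (hyp : y ^ p = 1) (hyp' : y' ^ p = 1) (hY : IsPGroup p (Subgroup.closure {y, y'} : Subgroup H))
    (hc : p ^ 2 ≤ Nat.card (Subgroup.closure {y, y'} : Subgroup H))
    (hf : ∀ g ∈ Subgroup.closure ({y, y'} : Set H), ρ g = 1 → g = 1) : False := by
  set Y := Subgroup.closure ({y, y'} : Set H) with hYdef
  obtain ⟨k, hk⟩ := hp.out.odd_of_ne_two hp2
  have hyY : y ∈ Y := Subgroup.subset_closure (by simp)
  have hyY' : y' ∈ Y := Subgroup.subset_closure (by simp)
  have tinv : t⁻¹ = t := inv_eq_of_mul_eq_one_right htt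
  -- half powers
  have half : ∀ z : H, t * z * t⁻¹ = z⁻¹ → z ^ p = 1 → ∀ m, ∃ n n' : ℕ,
      ρ z m = m + (n • l + n' • ρ (z ^ (k + 1)) l) := by
    intro z hz hzp m
    set z0 := z ^ (k + 1) with hz0
    have e1 : t * z0⁻¹ = z0 * t := by
      have : t * z0 * t⁻¹ = z0⁻¹ := by rw [hz0, ← conj_pow, hz, inv_pow]
      have h3 : t * z0⁻¹ * t⁻¹ = z0 := by rw [← conj_inv, this, inv_inv]
      rw [← h3]; nth_rewrite 1 [h3]; group
    have e2 : z = t * z0⁻¹ * t * z0 := by
      rw [e1, mul_assoc z0, htt, mul_one, hz0, ← pow_add,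
        show k + 1 + (k + 1) = p + 1 by omega, pow_succ, hzp, one_mul]
    have e3 : ∀ m, ∃ n : ℕ, ρ t m = m + n • l := fun m => by
      rcases ht m with e | e
      · exact ⟨0, by simpa using e⟩
      · exact ⟨1, by simpa using e⟩
    obtain ⟨n', h1⟩ := e3 (ρ z0 m)
    obtain ⟨n, h3⟩ := e3 m
    refine ⟨n, n', ?_⟩
    conv_lhs => rw [e2]
    rw [rep_mul, rep_mul, h1, map_add, map_nsmul, rep_mul, ← rep_mul ρ z0⁻¹, inv_mul_cancel,
      rep_one, h3, e1, rep_mul, hl, add_assoc]
  set a := ρ (y ^ (k + 1)) l with ha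
  set a' := ρ (y' ^ (k + 1)) l with ha'
  let R : AddSubgroup M :=
    { carrier := {m | ∃ n₁ n₂ n₃ : ℕ, m = n₁ • l + n₂ • a + n₃ • a'}
      add_mem' := by
        rintro _ _ ⟨n₁, n₂, n₃, rfl⟩ ⟨k₁, k₂, k₃, rfl⟩
        exact ⟨n₁ + k₁, n₂ + k₂, n₃ + k₃, by simp only [add_nsmul]; abel⟩
      zero_mem' := ⟨0, 0, 0, by simp⟩
      neg_mem' := by
        rintro _ ⟨n₁, n₂, n₃, rfl⟩
        exact ⟨n₁, n₂, n₃, neg_eq_of_add_eq_zero_right (h2 _)⟩ }
  have hR : ∀ g ∈ Y, ∀ m, ρ g m - m ∈ R := by
    intro g hg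
    induction hg using Subgroup.closure_induction with
    | mem x hx =>
      intro m
      rcases hx with rfl | rfl
      · obtain ⟨n, n', h⟩ := half x hy hyp m
        exact ⟨n, n', 0, by rw [h]; simp [ha]⟩
      · obtain ⟨n, n', h⟩ := half x hy' hyp' m
        exact ⟨n, 0, n', by rw [h]; simp [ha']⟩
    | one => intro m; rw [rep_one, sub_self]; exact R.zero_mem
    | mul x z _ _ hx hz =>
      intro m
      rw [rep_mul, show ρ x (ρ z m) - m = (ρ x (ρ z m) - ρ z m) + (ρ z m - m) by abel]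
      exact R.add_mem (hx _) (hz _)
    | inv x _ hx =>
      intro m
      have := R.neg_mem (hx (ρ x⁻¹ m))
      rwa [← rep_mul, mul_inv_cancel, rep_one, neg_sub] at this
  letI : MulAction Y M := MulAction.compHom M (ρ.comp Y.subtype)
  have smul_def : ∀ (g : Y) (m : M), g • m = ρ g m := fun _ _ => rfl
  set S := MulAction.stabilizer Y l with hS
  have hidx : S.index ≤ 8 := by
    rw [hS, MulAction.index_stabilizer]
    let F : Fin 2 × Fin 2 × Fin 2 → M := fun e => e.1.val • l + e.2.1.val • a + e.2.2.val • a'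
    have red : ∀ (n : ℕ) (m : M), n • m = (n % 2) • m := fun n m => by
      conv_lhs => rw [← Nat.div_add_mod n 2, add_nsmul, mul_nsmul', two_nsmul,
        show (n / 2) • m + (n / 2) • m = 0 from h2 _, zero_add]
    have sub : MulAction.orbit Y l ⊆ F '' Set.univ := by
      rintro _ ⟨g, rfl⟩
      obtain ⟨n₁, n₂, n₃, h⟩ := R.add_mem (hR g g.2 l) (⟨1, 0, 0, by simp⟩ : l ∈ R)
      refine ⟨(⟨n₁ % 2, Nat.mod_lt _ two_pos⟩, ⟨n₂ % 2, Nat.mod_lt _ two_pos⟩,
        ⟨n₃ % 2, Nat.mod_lt _ two_pos⟩), trivial, ?_⟩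
      simp only [F, ← red, ← h, smul_def, sub_add_cancel]
    calc (MulAction.orbit Y l).ncard ≤ (F '' Set.univ).ncard :=
          Set.ncard_le_ncard sub (Set.toFinite _)
      _ ≤ (Set.univ : Set (Fin 2 × Fin 2 × Fin 2)).ncard := Set.ncard_image_le (Set.toFinite _)
      _ = 8 := by simp [Set.ncard_univ]
  have h3 : 3 ≤ p := by have := hp.out.two_le; omega
  obtain ⟨j, hj⟩ := hY.index S
  obtain ⟨c, hcard⟩ := IsPGroup.iff_card.1 hY
  have hj1 : j ≤ 1 := by
    by_contra h
    have : p ^ 2 ≤ p ^ j := Nat.pow_le_pow_right hp.out.pos (by omega)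
    nlinarith
  have hc2 : 2 ≤ c := by
    rw [hcard] at hc
    exact (Nat.pow_le_pow_iff_right hp.out.one_lt).1 hc
  have hnorm : S.Normal := by
    rcases Nat.le_one_iff_eq_zero_or_eq_one.1 hj1 with e | e
    · rw [e, pow_zero, Subgroup.index_eq_one] at hj
      rw [hj]; infer_instance
    · refine Subgroup.normal_of_index_eq_minFac_card ?_
      rw [hj, e, pow_one, hcard, hp.out.pow_minFac (by omega)]
  have hS1 : S ≠ ⊥ := by
    intro e
    rw [e, Subgroup.index_bot, hcard] at hj
    have := Nat.pow_right_injective hp.out.two_le hj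
    omega
  obtain ⟨g, hgS, hg1⟩ := (Subgroup.ne_bot_iff_exists_ne_one.1 hS1).imp fun g h => And.intro g.2 h
  have gl : ρ (g : Y) l = l := hgS
  have gz : ∀ z : Y, ρ (g : Y) (ρ z l) = ρ z l := fun z => by
    have : ρ ((z⁻¹ * g * z⁻¹⁻¹ : Y) : H) l = l := hnorm.conj_mem _ hgS z⁻¹
    simp only [Subgroup.coe_mul, Subgroup.coe_inv, inv_inv, rep_mul] at this
    have h4 := congrArg (ρ z) this
    rwa [← rep_mul, mul_inv_cancel, rep_one] at h4
  have gR : ∀ r ∈ R, ρ (g : Y) r = r := by
    rintro _ ⟨n₁, n₂, n₃, rfl⟩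
    have e1 := gz ⟨y ^ (k + 1), Y.pow_mem hyY _⟩
    have e2 := gz ⟨y' ^ (k + 1), Y.pow_mem hyY' _⟩
    simp only [map_add, map_nsmul, gl, ha, ha']
    rw [e1, e2]
  have g2 : ((g : Y) : H) * (g : Y) = 1 := by
    refine hf _ (Y.mul_mem (g : Y).2 (g : Y).2) (LinearMap.ext fun m => ?_)
    have e := gR _ (hR _ (g : Y).2 m)
    rw [map_sub] at e
    rw [rep_mul]
    have : ρ ((g : Y) : H) (ρ (g : Y) m) = m + (ρ (g : Y) m + ρ (g : Y) m) - (m + m) := by
      rw [sub_eq_iff_eq_add.1 e]; abel
    rw [this, h2, h2, add_zero, sub_zero]; rfl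
  obtain ⟨e, he⟩ := hY (g : Y)
  have hodd : Odd (p ^ e) := (hp.out.odd_of_ne_two hp2).pow
  obtain ⟨u, hu⟩ := hodd
  have g2' : (g : Y) * (g : Y) = 1 := Subtype.ext g2
  rw [hu, pow_succ, pow_mul, pow_two, g2', one_pow, one_mul] at he
  exact hg1 (Subtype.ext he)

end Cfsg.Agent.KM
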