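import Cfsg.Agent.PLocal.SigCoprime
import Cfsg.Agent.PLocal.CharP
import Cfsg.Agent.PLocal.Amb
import Cfsg.Agent.Grp.CritExp

/-! Klinger–Mason: elementary abelian `p`-subgroups of maximal order centralizing an involution. -/

set_option autoImplicit false
set_option linter.unusedSectionVars false

namespace Cfsg.Agent.KM

open Subgroup Cfsg Cfsg.Agent.PLocal Cfsg.Agent.PLocal.Amb
open Cfsg.Agent.PLocal.CP (IsCharP)
open Cfsg.Agent.PLocal.Sig (Hyp)
open scoped commutatorElement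

variable {G : Type*} [Group G] [Finite G] {p : ℕ} [hp : Fact p.Prime]

theorem ea_ext {B : Subgroup G} (hB : IsElementaryAbelian p B) {y : G} (hy : y ∈ 𝐂[B])
    (hyp : y ^ p = 1) : IsElementaryAbelian p (B ⊔ zpowers y) := by
  have h1 : zpowers y ≤ 𝐂[B] := zpowers_le.2 hy
  refine ⟨Subgroup.le_centralizer_iff_isMulCommutative.1 ?_, fun x hx => ?_⟩
  · rw [Amb.centralizer_sup]
    exact sup_le (le_inf (elemAb_le_centralizer hB) (le_centralizer_iff.1 h1))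
      (le_inf h1 (Subgroup.le_centralizer _))
  · obtain ⟨b, hb, _, ⟨k, rfl⟩, rfl⟩ :=
      (mem_sup_of_le_normalizer_left (h1.trans (centralizer_le_normalizer' B))).1 hx
    have hc : Commute b (y ^ k) := Commute.zpow_right (hy b hb) k
    rw [hc.mul_pow, hB.2 b hb, one_mul, ← zpow_natCast, ← zpow_mul, mul_comm, zpow_mul,
      zpow_natCast, hyp, one_zpow]

theorem card_mul_le_of_lt {X Y : Subgroup G} (hY : IsPGroup p Y) (h : X < Y) :
    Nat.card X * p ≤ Nat.card Y := by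
  obtain ⟨a, ha⟩ := IsPGroup.iff_card.1 (hY.to_le h.le)
  obtain ⟨b, hb⟩ := IsPGroup.iff_card.1 hY
  have hlt : Nat.card X < Nat.card Y := by
    refine lt_of_le_of_ne (card_le_of_le h.le) fun e => h.ne (eq_of_le_of_card_ge h.le e.ge)
  rw [ha, hb] at hlt ⊢
  rw [← pow_succ]
  exact Nat.pow_le_pow_right hp.out.pos ((Nat.pow_lt_pow_iff_right hp.out.one_lt).1 hlt)

theorem card_ext {B : Subgroup G} (hB : IsElementaryAbelian p B) {y : G} (hy : y ∈ 𝐂[B])
    (hyp : y ^ p = 1) (hn : y ∉ B) : Nat.card B * p ≤ Nat.card ↥(B ⊔ zpowers y) :=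
  card_mul_le_of_lt (elemAb_isPGroup (ea_ext hB hy hyp))
    (lt_of_le_of_ne le_sup_left fun e => hn (by
      rw [e]; exact (le_sup_right : zpowers y ≤ _) (mem_zpowers y)))

theorem eq_one_of_inv (hp2 : p ≠ 2) {y : G} {k : ℕ} (hy : y ^ p ^ k = 1) (h : y = y⁻¹) : y = 1 := by
  obtain ⟨u, hu⟩ : Odd (p ^ k) := (hp.out.odd_of_ne_two hp2).pow
  have h2 : y * y = 1 := by nth_rewrite 2 [h]; exact mul_inv_cancel y
  rwa [hu, pow_succ, pow_mul, pow_two, h2, one_pow, one_mul] at hy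

theorem not_mem_of_inv (hp2 : p ≠ 2) {X : Subgroup G} {k z : G} (hk : k ∈ 𝐂[X]) (hz : z ^ p = 1)
    (hz1 : z ≠ 1) (h : k * z * k⁻¹ = z⁻¹) : z ∉ X := fun hX => by
  refine hz1 (eq_one_of_inv hp2 (k := 1) (by rwa [pow_one]) ?_)
  rw [← h, ← hk z hX, mul_inv_cancel_right]

theorem mem_cent_sup {B : Subgroup G} {y k : G} (hk : k ∈ 𝐂[B]) (h : y * k = k * y) :
    k ∈ 𝐂[B ⊔ zpowers y] := by
  rw [Amb.centralizer_sup, Amb.centralizer_zpowers]
  exact ⟨hk, mem_centralizer_singleton_iff.2 h.symm⟩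

theorem two_comm (hp2 : p ≠ 2) {B : Subgroup G} (hB : IsElementaryAbelian p B) {y z k₁ k₃ s : G}
    (hy : y ∈ 𝐂[B]) (hz : z ∈ 𝐂[B]) (hyp : y ^ p = 1) (hzp : z ^ p = 1) (hy1 : y ≠ 1) (hz1 : z ≠ 1)
    (hc : y * z = z * y) (h1 : k₁ ∈ 𝐂[B]) (h3 : k₃ ∈ 𝐂[B]) (hs : s ∈ 𝐂[B])
    (e1 : k₁ * y * k₁⁻¹ = y⁻¹) (e3 : y * k₃ = k₃ * y) (e3' : k₃ * z * k₃⁻¹ = z⁻¹)
    (s1 : y * s = s * y) (s2 : z * s = s * z) :
    ∃ A, IsElementaryAbelian p A ∧ Nat.card B * p ^ 2 ≤ Nat.card A ∧ s ∈ 𝐂[A] := by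
  have a1 := ea_ext hB hy hyp
  have c1 := card_ext hB hy hyp (not_mem_of_inv hp2 h1 hyp hy1 e1)
  have hz' := mem_cent_sup hz hc
  have c2 := card_ext a1 hz' hzp (not_mem_of_inv hp2 (mem_cent_sup h3 e3) hzp hz1 e3')
  refine ⟨_, ea_ext a1 hz' hzp, le_trans ?_ c2, mem_cent_sup (mem_cent_sup hs s1) s2⟩
  rw [pow_two, ← mul_assoc]
  exact Nat.mul_le_mul_right _ c1

/-- A subgroup of exponent `p` and class at most two of `C(B)` on which involutions act. -/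
structure Om (p : ℕ) (B Ω : Subgroup G) : Prop where
  le : Ω ≤ 𝐂[B]
  nrm : 𝐂[B] ≤ 𝐍[Ω]
  pow : ∀ x ∈ Ω, x ^ p = 1
  cls : ∀ x ∈ Ω, ∀ y ∈ Ω, ⁅x, y⁆ ∈ 𝐂[Ω]
  faith : ∀ g ∈ 𝐂[B], g * g = 1 → g ∈ 𝐂[Ω] → g = 1

theorem coprime_of_sq (hp2 : p ≠ 2) {g : G} (h : g * g = 1) : (orderOf g).Coprime p :=
  Nat.Coprime.coprime_dvd_left (orderOf_dvd_of_pow_eq_one (n := 2) (by rwa [pow_two]))
    ((Nat.coprime_primes Nat.prime_two hp.out).2 hp2.symm)

theorem coprime_two (hp2 : p ≠ 2) {g : G} {k : ℕ} (h : g ^ p ^ k = 1) : (orderOf g).Coprime 2 :=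
  Nat.Coprime.coprime_dvd_left (orderOf_dvd_of_pow_eq_one h)
    (Nat.Coprime.pow_left k ((Nat.coprime_primes hp.out Nat.prime_two).2 hp2))

theorem coprime_two' (hp2 : p ≠ 2) {g : G} (h : g ^ p = 1) : (orderOf g).Coprime 2 :=
  coprime_two hp2 (k := 1) (by rwa [pow_one])

theorem exists_om (hp2 : p ≠ 2) {B : Subgroup G} (h : IsCharP p 𝐂[B]) : ∃ Ω, Om p B Ω := by
  obtain ⟨D, h1, h2, h3, h4, h5⟩ := Grp.CritExp.exists_char_amb (CP.isPGroup_pCoreOf p 𝐂[B])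
  have hn := CP.le_normalizer_pCoreOf p 𝐂[B]
  refine ⟨D, h1.trans (CP.pCoreOf_le _ _), hn.trans h2, fun x hx => ?_, fun x hx y hy => ?_,
    fun g hg hg2 hgD => ?_⟩
  · rw [← h3 x hx, Grp.CritExp.expQ_of_ne hp2]
  · exact (h4 (commutator_mem_commutator hx (h1 hy))).2
  · exact h.eq_one hg (coprime_of_sq hp2 hg2) (h5 g (hn hg) (coprime_of_sq hp2 hg2) hgD)

namespace Om

variable {B Ω : Subgroup G} (h : Om p B Ω)
include h

theorem pgrp : IsPGroup p Ω := Amb.isPGroup_iff.2 fun x hx => ⟨1, by rw [pow_one, h.pow x hx]⟩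

theorem not_two_dvd (hp2 : p ≠ 2) {X : Subgroup G} (hX : X ≤ Ω) : ¬ 2 ∣ Nat.card X :=
  haveI : Fact (Nat.Prime 2) := ⟨Nat.prime_two⟩
  Sig.not_dvd_of_isPGroup hp2 (h.pgrp.to_le hX)

theorem two (hp2 : p ≠ 2) (hB : IsElementaryAbelian p B) {y z k₁ k₃ s : G}
    (hy : y ∈ Ω) (hz : z ∈ Ω) (hy1 : y ≠ 1) (hz1 : z ≠ 1)
    (h1 : k₁ ∈ 𝐂[B]) (h3 : k₃ ∈ 𝐂[B]) (hs : s ∈ 𝐂[B])
    (e1 : k₁ * y * k₁⁻¹ = y⁻¹) (e3 : y * k₃ = k₃ * y) (e3' : k₃ * z * k₃⁻¹ = z⁻¹)
    (s1 : y * s = s * y) (s2 : z * s = s * z) :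
    ∃ A, IsElementaryAbelian p A ∧ Nat.card B * p ^ 2 ≤ Nat.card A ∧ s ∈ 𝐂[A] := by
  by_cases hc : ⁅y, z⁆ = 1
  · exact two_comm hp2 hB (h.le hy) (h.le hz) (h.pow y hy) (h.pow z hz) hy1 hz1
      (commutatorElement_eq_one_iff_mul_comm.1 hc) h1 h3 hs e1 e3 e3' s1 s2
  · have hm : ⁅y, z⁆ ∈ Ω := by
      rw [commutatorElement_def]
      exact mul_mem (mul_mem (mul_mem hy hz) (inv_mem hy)) (inv_mem hz)
    have hc' := h.cls y hy z hz
    refine two_comm hp2 hB (h.le hy) (h.le hm) (h.pow y hy) (h.pow _ hm) hy1 hc (hc' y hy) h1 h3 hs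
      e1 e3 ?_ s1 ?_
    · rw [conjugate_commutatorElement, e3', ← e3, mul_inv_cancel_right]
      have := Grp.CommPow.commutator_zpow_right (Commute.symm (hc' z hz)) (-1)
      simpa using this
    · have c1 : Commute y s := s1
      have c2 : Commute z s := s2
      rw [commutatorElement_def]
      exact ((c1.mul_left c2).mul_left c1.inv_left).mul_left c2.inv_left

end Om

/-- an involution acting nontrivially on a group of odd order inverts a nontrivial element -/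
theorem exists_inverted {X : Subgroup G} {t : G} (ht : t * t = 1) (hn : t ∈ 𝐍[X]) (h : t ∉ 𝐂[X]) :
    ∃ y ∈ X, y ≠ 1 ∧ t * y * t⁻¹ = y⁻¹ := by
  rw [mem_centralizer_iff] at h
  push Not at h
  obtain ⟨x, hx, hne⟩ := h
  have ti : t⁻¹ = t := inv_eq_of_mul_eq_one_right ht
  refine ⟨x⁻¹ * (t * x * t⁻¹), mul_mem (inv_mem hx) (conj_mem_of_mem_normalizer hn hx),
    fun e => hne ?_, ?_⟩
  · rw [inv_mul_eq_one] at e
    rw [eq_mul_inv_iff_mul_eq] at e
    exact e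
  · rw [ti]
    calc t * (x⁻¹ * (t * x * t)) * t = t * x⁻¹ * t * x * (t * t) := by group
      _ = _ := by rw [ht, mul_inv_rev, mul_inv_rev, mul_inv_rev, ti]; group

/-- the four-group generated by two commuting involutions -/
def four (s t : G) (hs : s * s = 1) (ht : t * t = 1) (h : s * t = t * s) : Subgroup G where
  carrier := {x | x = 1 ∨ x = s ∨ x = t ∨ x = s * t}
  one_mem' := Or.inl rfl
  mul_mem' := by
    have e1 : s * (s * t) = t := by rw [← mul_assoc, hs, one_mul]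
    have e2 : t * (s * t) = s := by rw [h, ← mul_assoc, ht, one_mul]
    have e3 : s * t * s = t := by rw [h, mul_assoc, hs, mul_one]
    have e4 : s * t * t = s := by rw [mul_assoc, ht, mul_one]
    have e5 : s * t * (s * t) = 1 := by rw [← mul_assoc, e3, ht]
    rintro a b (rfl | rfl | rfl | rfl) (rfl | rfl | rfl | rfl) <;>
      simp [hs, ht, e1, e2, e3, e4, e5, ← h]
  inv_mem' := by
    have e5 : s * t * (s * t) = 1 := by rw [← mul_assoc, h, mul_assoc t, hs, mul_one, ht]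
    rintro a (rfl | rfl | rfl | rfl)
    · simp
    · simp [inv_eq_of_mul_eq_one_right hs]
    · simp [inv_eq_of_mul_eq_one_right ht]
    · rw [inv_eq_of_mul_eq_one_right e5]; simp

theorem four_le {s t : G} (hs : s * s = 1) (ht : t * t = 1) (h : s * t = t * s) {L : Subgroup G}
    (h1 : s ∈ L) (h2 : t ∈ L) : four s t hs ht h ≤ L := by
  rintro a (rfl | rfl | rfl | rfl)
  exacts [one_mem _, h1, h2, mul_mem h1 h2]

theorem four_ea {s t : G} (hs : s * s = 1) (ht : t * t = 1) (h : s * t = t * s) :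
    IsElementaryAbelian 2 (four s t hs ht h) := by
  refine ⟨Subgroup.le_centralizer_iff_isMulCommutative.1 (four_le hs ht h ?_ ?_), ?_⟩
  · rintro a (rfl | rfl | rfl | rfl)
    · simp
    · rfl
    · exact h.symm
    · rw [mul_assoc, h]
  · rintro a (rfl | rfl | rfl | rfl)
    · simp
    · exact h
    · rfl
    · rw [mul_assoc, ← mul_assoc t s t, ← h, mul_assoc]
  · rintro a (rfl | rfl | rfl | rfl) <;> rw [pow_two]
    · simp
    · exact hs
    · exact ht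
    · rw [← mul_assoc, h, mul_assoc t, hs, mul_one, ht]

theorem four_card {s t : G} (hs : s * s = 1) (ht : t * t = 1) (h : s * t = t * s) (s1 : s ≠ 1)
    (t1 : t ≠ 1) (st : s ≠ t) : 2 ^ 2 ≤ Nat.card (four s t hs ht h) := by
  haveI : Fact (Nat.Prime 2) := ⟨Nat.prime_two⟩
  have hV := elemAb_isPGroup (four_ea hs ht h)
  have l1 : zpowers s < four s t hs ht h := by
    refine lt_of_le_of_ne (zpowers_le.2 (Or.inr (Or.inl rfl))) fun e => ?_
    have : t ∈ zpowers s := by rw [e]; exact Or.inr (Or.inr (Or.inl rfl))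
    obtain ⟨k, hk⟩ := this
    rcases Int.even_or_odd' k with ⟨j, rfl | rfl⟩
    · exact t1 (by rw [← hk]; simp only [zpow_mul, zpow_two, hs, one_zpow])
    · exact st (by rw [← hk]; simp only [zpow_add, zpow_mul, zpow_two, hs, one_zpow, one_mul, zpow_one])
  have c := card_mul_le_of_lt hV l1
  rw [Nat.card_zpowers, orderOf_eq_prime (p := 2) (by rwa [pow_two]) s1] at c
  exact c

/-- a four-group `⟨t, e⟩` acting on a group of odd order -/
theorem four_act {X : Subgroup G} (hX : ¬ 2 ∣ Nat.card X) {t e : G} (ht : t * t = 1) (he : e * e = 1)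
    (h : t * e = e * t) (t1 : t ≠ 1) (e1 : e ≠ 1) (te : t ≠ e) (nt : t ∈ 𝐍[X]) (ne : e ∈ 𝐍[X])
    (hn : t ∉ 𝐂[X]) : ∃ s, (s = e ∨ s = t * e) ∧ t ∉ 𝐂[X ⊓ centralizer {s}] := by
  haveI : Fact (Nat.Prime 2) := ⟨Nat.prime_two⟩
  have : ¬ X ≤ centralizer {t} := fun c => hn fun x hx => mem_centralizer_singleton_iff.1 (c hx)
  obtain ⟨s, hs, s1, hs'⟩ := Sig.exists_cent1_not_le (four_ea ht he h) (four_card ht he h t1 e1 te)
    (four_le ht he h nt ne) hX this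
  have k : t ∉ 𝐂[X ⊓ centralizer {s}] := fun c =>
    hs' fun x hx => mem_centralizer_singleton_iff.2 (c x hx)
  rcases hs with rfl | rfl | rfl | rfl
  · exact absurd rfl s1
  · exact absurd inf_le_right hs'
  · exact ⟨_, Or.inl rfl, k⟩
  · exact ⟨_, Or.inr rfl, k⟩

variable (G) in
/-- The standing hypotheses; `n` bounds the orders of elementary abelian `p`-subgroups centralizing
an involution. -/
structure Ctx (p n : ℕ) : Prop where
  ne : p ≠ 2
  chP : ∀ B : Subgroup G, IsPGroup p B → B ≠ ⊥ → IsCharP p 𝐂[B]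
  ch2 : ∀ t : G, t ≠ 1 → t * t = 1 → IsCharP 2 (centralizer {t})
  mx : ∀ (A : Subgroup G) (s : G), IsElementaryAbelian p A → s ≠ 1 → s * s = 1 → s ∈ 𝐂[A] →
    Nat.card A ≤ n

namespace Ctx

variable {n : ℕ} (c : Ctx G p n) {A : Subgroup G} (hA : IsElementaryAbelian p A)
include c

theorem om {B : Subgroup G} (hB : IsElementaryAbelian p B) (h1 : B ≠ ⊥) : ∃ Ω, Om p B Ω :=
  exists_om c.ne (c.chP B (elemAb_isPGroup hB) h1)

include hA

/-- `C(A)` has `2`-rank one. -/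
theorem eq_inv (h1 : A ≠ ⊥) (hn : n ≤ Nat.card A) {v w : G} (hv : v * v = 1) (hw : w * w = 1)
    (v1 : v ≠ 1) (w1 : w ≠ 1) (h : v * w = w * v) (cv : v ∈ 𝐂[A]) (cw : w ∈ 𝐂[A]) : v = w := by
  haveI : Fact (Nat.Prime 2) := ⟨Nat.prime_two⟩
  by_contra vw
  obtain ⟨Ω, o⟩ := c.om hA h1
  have : Ω ≤ A := by
    refine Sig.le_of_cent1_le (four_ea hv hw h) (four_card hv hw h v1 w1 vw)
      ((four_le hv hw h cv cw).trans o.nrm) (o.not_two_dvd c.ne le_rfl) fun s hs s1 x hx => ?_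
    by_contra hxA
    have k1 := card_ext hA (o.le hx.1) (o.pow x hx.1) hxA
    have k2 := c.mx _ s (ea_ext hA (o.le hx.1) (o.pow x hx.1)) s1
      (by rw [← pow_two]; exact (four_ea hv hw h).2 s hs)
      (mem_cent_sup (four_le hv hw h cv cw hs) (mem_centralizer_singleton_iff.1 hx.2))
    have := hp.out.two_le
    have := Nat.card_pos (α := A)
    nlinarith
  exact v1 (o.faith v cv hv (centralizer_anti this cv))

/-- An `A`-invariant elementary abelian `2`-group meeting `C(A)` is centralized by `A`. -/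
theorem cent_ea (h2 : p ^ 2 ≤ Nat.card A) (hn : n ≤ Nat.card A) {W : Subgroup G}
    (hW : IsElementaryAbelian 2 W) (hAW : A ≤ 𝐍[W]) {t : G} (ht : t ∈ W) (t1 : t ≠ 1)
    (ct : t ∈ 𝐂[A]) : W ≤ 𝐂[A] := by
  haveI : Fact (Nat.Prime 2) := ⟨Nat.prime_two⟩
  by_contra hne
  obtain ⟨B, hB, hB'⟩ := Sig.exists_hyp_not_le hA (Sig.ne_bot_of_pow_le (k := 1) h2) hAW
    (Sig.not_dvd_of_isPGroup c.ne.symm (elemAb_isPGroup hW)) hne
  set K := W ⊓ 𝐂[B] with hKdef
  have hK : IsElementaryAbelian 2 K := elemAb_mono hW inf_le_left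
  have eB := elemAb_mono hA hB.1
  have hAK : A ≤ 𝐍[K] := Amb.le_normalizer_inf hAW (Sig.ea_norm_cent hA hB.1)
  have B1 : B ≠ ⊥ := Sig.ne_bot_of_pow_le (k := 0) (hB.pow_le h2)
  obtain ⟨Ω, o⟩ := c.om eB B1
  obtain ⟨k, hk, hkA⟩ := SetLike.not_le_iff_exists.1 hB'
  rw [mem_centralizer_iff] at hkA
  push Not at hkA
  obtain ⟨a, ha, hak⟩ := hkA
  have sq : ∀ x ∈ K, x * x = 1 := fun x hx => by rw [← pow_two]; exact hK.2 x hx
  have cj : ∀ x ∈ K, a * x * a⁻¹ ∈ K := fun x hx => conj_mem_of_mem_normalizer (hAK ha) hx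
  have cj' : ∀ x ∈ K, a⁻¹ * x * a ∈ K := fun x hx => inv_conj_mem_of_mem_normalizer (hAK ha) hx
  have tK : t ∈ K := ⟨ht, centralizer_anti hB.1 ct⟩
  set k0 := k * (a * k * a⁻¹) with hk0
  have k0K : k0 ∈ K := mul_mem hk (cj k hk)
  have k01 : k0 ≠ 1 := fun e => hak (by
    have := (inv_eq_of_mul_eq_one_right (sq k hk)).symm.trans (inv_eq_of_mul_eq_one_right e)
    rw [eq_mul_inv_iff_mul_eq] at this
    exact this.symm)
  have k0n : ¬ Ω ≤ centralizer {k0} := fun e =>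
    k01 (o.faith k0 k0K.2 (sq _ k0K) fun x hx => mem_centralizer_singleton_iff.1 (e hx))
  obtain ⟨K1, hK1, hK1'⟩ := Sig.exists_hyp_not_le hK (fun e => t1 (by rwa [e] at tK))
    (inf_le_right.trans o.nrm) (o.not_two_dvd c.ne le_rfl) k0n
  obtain ⟨y, hy, y1, hyk⟩ := exists_inverted (X := Ω ⊓ 𝐂[K1]) (sq _ k0K)
    (Amb.le_normalizer_inf (inf_le_right.trans o.nrm) (Sig.ea_norm_cent hK hK1.1) k0K)
    fun e => hK1' fun x hx => mem_centralizer_singleton_iff.2 (e x hx)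
  have yne : y ≠ y⁻¹ := fun e => y1 (eq_one_of_inv c.ne (k := 1) (by rw [pow_one, o.pow y hy.1]) e)
  have k0K1 : k0 ∉ K1 := fun e => yne (by rw [← hyk, hy.2 k0 e, mul_inv_cancel_right])
  have wt : ∀ x ∈ K, x * y * x⁻¹ = y ∨ x * y * x⁻¹ = y⁻¹ := by
    intro x hx
    rw [← hK1.sup_zpowers k0K k0K1] at hx
    obtain ⟨u, hu, _, ⟨j, rfl⟩, rfl⟩ := (mem_sup_of_le_normalizer_left
      ((zpowers_le.2 k0K).trans (Sig.ea_norm hK hK1.1))).1 hx
    have e1 : u * y * u⁻¹ = y := by rw [hy.2 u hu, mul_inv_cancel_right]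
    rcases Int.even_or_odd' j with ⟨i, rfl | rfl⟩
    · left; simp only [zpow_mul, zpow_two, sq _ k0K, one_zpow, mul_one, e1]
    · right
      simp only [zpow_add, zpow_mul, zpow_two, sq _ k0K, one_zpow, one_mul, zpow_one]
      rw [show u * k0 * y * (u * k0)⁻¹ = u * (k0 * y * k0⁻¹) * u⁻¹ by group, hyk, ← conj_inv, e1]
  let P : G → Prop := fun x => x * y * x⁻¹ = y
  have nP : ∀ x ∈ K, ¬ P x → x * y * x⁻¹ = y⁻¹ := fun x hx h => (wt x hx).resolve_left h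
  have Pmul : ∀ u v, P u → P v → P (u * v) := fun u v hu hv => by
    show u * v * y * (u * v)⁻¹ = y
    rw [show u * v * y * (u * v)⁻¹ = u * (v * y * v⁻¹) * u⁻¹ by group, hv, hu]
  have Pmul' : ∀ u ∈ K, ∀ v ∈ K, ¬ P u → ¬ P v → P (u * v) := fun u hu v hv nu nv => by
    show u * v * y * (u * v)⁻¹ = y
    rw [show u * v * y * (u * v)⁻¹ = u * (v * y * v⁻¹) * u⁻¹ by group, nP v hv nv, ← conj_inv,
      nP u hu nu, inv_inv]
  have nPk0 : ¬ P k0 := fun e => yne (e.symm.trans hyk)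
  obtain ⟨k3, hk3, P3, nP3⟩ : ∃ k3 ∈ K, P k3 ∧ ¬ P (a⁻¹ * k3 * a) := by
    by_contra hh
    push Not at hh
    have it : ∀ m : ℕ, ∀ x ∈ K, P x → P ((a ^ m)⁻¹ * x * a ^ m) := by
      intro m
      induction m with
      | zero => intro x _ h; simpa using h
      | succ m ih =>
        intro x hx h
        have := ih _ (cj' x hx) (hh x hx h)
        rwa [show (a ^ m)⁻¹ * (a⁻¹ * x * a) * a ^ m = (a ^ (m + 1))⁻¹ * x * a ^ (m + 1) by group]
          at this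
    by_cases pk : P k
    · have := it (p - 1) k hk pk
      have e : a ^ (p - 1) = a⁻¹ := by
        rw [eq_inv_iff_mul_eq_one, ← pow_succ, Nat.sub_add_cancel hp.out.pos, hA.2 a ha]
      rw [e, inv_inv] at this
      exact nPk0 (Pmul _ _ pk this)
    · refine nPk0 (Pmul' _ hk _ (cj k hk) pk fun e => pk ?_)
      have := hh _ (cj k hk) e
      rwa [show a⁻¹ * (a * k * a⁻¹) * a = k by group] at this
  have ta : a⁻¹ * t * a = t := by rw [mul_assoc, ← ct a ha, inv_mul_cancel_left]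
  obtain ⟨s, hs, s1, Ps, Ps'⟩ : ∃ s ∈ K, s ≠ 1 ∧ P s ∧ P (a⁻¹ * s * a) := by
    by_cases pt : P t
    · exact ⟨t, tK, t1, pt, by rwa [ta]⟩
    · set k5 := a⁻¹ * k3 * a * t with hk5
      have k5K : k5 ∈ K := mul_mem (cj' _ hk3) tK
      have P5 : P k5 := Pmul' _ (cj' _ hk3) _ tK nP3 pt
      have k51 : k5 ≠ 1 := fun e => by
        have h1 : a⁻¹ * k3 * a = t :=
          (eq_inv_of_mul_eq_one_left e).trans (inv_eq_of_mul_eq_one_right (sq t tK))
        have h2 : k3 = t := by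
          rw [← ta] at h1
          simpa using h1
        exact pt (h2 ▸ P3)
      by_cases p5 : P (a⁻¹ * k5 * a)
      · exact ⟨k5, k5K, k51, P5, p5⟩
      · refine ⟨k5 * k3, mul_mem k5K hk3, fun e => t1 ?_, Pmul _ _ P5 P3, ?_⟩
        · have h1 : k5 = k3 :=
            (eq_inv_of_mul_eq_one_left e).trans (inv_eq_of_mul_eq_one_right (sq _ hk3))
          have h3 : ⁅a⁻¹, k3⁆ ∈ zpowers t := by
            have h5 : a⁻¹ * k3 * a = k3 * t⁻¹ := eq_mul_inv_of_mul_eq (hk5.symm.trans h1)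
            rw [commutatorElement_def, inv_inv, h5, elemAb_comm hK hk3 (inv_mem tK)]
            simp
          have h4 := CP.commute_of_commutator_mem (p := 2) (U := zpowers t)
            (isPGroup_zpowers ⟨1, by rw [pow_one, pow_two, sq t tK]⟩)
            (coprime_two' c.ne (hA.2 _ (inv_mem ha)))
            (by rw [Amb.centralizer_zpowers]
                exact mem_centralizer_singleton_iff.2 (ct _ (inv_mem ha))) h3
          rw [hk5, h4.eq, inv_mul_cancel_right] at h1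
          simpa using h1
        · rw [show a⁻¹ * (k5 * k3) * a = a⁻¹ * k5 * a * (a⁻¹ * k3 * a) by group]
          exact Pmul' _ (cj' _ k5K) _ (cj' _ hk3) p5 nP3
  have aB : a ∈ 𝐂[B] := Sig.ea_le_cent hA hB.1 ha
  obtain ⟨A', h1, h2', h3⟩ := o.two c.ne eB (z := a * y * a⁻¹) hy.1
    (conj_mem_of_mem_normalizer (o.nrm aB) hy.1) y1 (by simpa using y1) k0K.2 hk3.2 hs.2 hyk
    (by rw [← mul_inv_eq_iff_eq_mul.1 P3]) (by
      rw [show k3 * (a * y * a⁻¹) * k3⁻¹ = a * (a⁻¹ * k3 * a * y * (a⁻¹ * k3 * a)⁻¹) * a⁻¹ by group,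
        nP _ (cj' _ hk3) nP3, conj_inv])
    (by rw [← mul_inv_eq_iff_eq_mul.1 Ps]) (by
      have : s * (a * y * a⁻¹) * s⁻¹ = a * y * a⁻¹ := by
        rw [show s * (a * y * a⁻¹) * s⁻¹ = a * (a⁻¹ * s * a * y * (a⁻¹ * s * a)⁻¹) * a⁻¹ by group,
          Ps']
      rw [← mul_inv_eq_iff_eq_mul.1 this])
  have k2 := c.mx A' s h1 s1 (sq s hs) h3
  have k4 := hB.card_mul
  have := hp.out.two_le
  have := Nat.card_pos (α := A)
  rw [pow_two, ← mul_assoc, k4] at h2'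
  nlinarith

/-- An `A`-invariant abelian `2`-group meeting `C(A)` is centralized by `A`. -/
theorem cent_ab (h2 : p ^ 2 ≤ Nat.card A) (hn : n ≤ Nat.card A) {X : Subgroup G}
    (hX : IsPGroup 2 X) (hc : X ≤ 𝐂[X]) (hAX : A ≤ 𝐍[X]) {t : G} (ht : t ∈ X) (t1 : t ≠ 1)
    (tt : t * t = 1) (ct : t ∈ 𝐂[A]) : X ≤ 𝐂[A] := by
  let W : Subgroup G :=
    { carrier := {x | x ∈ X ∧ x * x = 1}
      one_mem' := ⟨one_mem _, mul_one _⟩
      mul_mem' := fun {a b} ha hb => ⟨mul_mem ha.1 hb.1, by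
        rw [mul_assoc, ← mul_assoc b, hc ha.1 b hb.1, mul_assoc, hb.2, mul_one, ha.2]⟩
      inv_mem' := fun {a} ha => ⟨inv_mem ha.1, by rw [← mul_inv_rev, ha.2, inv_one]⟩ }
  have hW : IsElementaryAbelian 2 W :=
    ⟨Subgroup.le_centralizer_iff_isMulCommutative.1 fun a ha b hb => hc ha.1 b hb.1,
      fun a ha => by rw [pow_two, ha.2]⟩
  have hWc := c.cent_ea hA h2 hn hW (fun a ha => CP.mem_normalizer_of_conj_mem fun x hx =>
    ⟨conj_mem_of_mem_normalizer (hAX ha) hx.1, by rw [conj_mul, hx.2, mul_one, mul_inv_cancel]⟩)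
    ⟨ht, tt⟩ t1 ct
  have key : ∀ k : ℕ, ∀ x ∈ X, x ^ 2 ^ k = 1 → x ∈ 𝐂[A] := by
    intro k
    induction k with
    | zero => intro x _ h; rw [pow_zero, pow_one] at h; rw [h]; exact one_mem _
    | succ k ih =>
      intro x hx h a ha
      have h1 := ih (x ^ 2) (pow_mem hx 2) (by rw [← pow_mul, ← pow_succ', h])
      have hx' := conj_mem_of_mem_normalizer (hAX ha) hx
      refine CP.commute_of_commutator_mem (p := 2) (elemAb_isPGroup hW)
        (coprime_two' c.ne (hA.2 a ha)) (le_centralizer_iff.1 hWc ha)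
        ⟨mul_mem hx' (inv_mem hx), ?_⟩
      have cm : Commute (a * x * a⁻¹) x⁻¹ := hc (inv_mem hx) _ hx'
      rw [commutatorElement_def, ← pow_two, cm.mul_pow, conj_pow, h1 a ha, mul_inv_cancel_right,
        inv_pow, mul_inv_cancel]
  intro x hx
  obtain ⟨k, hk⟩ := Amb.isPGroup_iff.1 hX x hx
  exact key k x hx hk

end Ctx

end Cfsg.Agent.KM
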