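import Cfsg.Agent.KM.Basic
import Cfsg.Agent.S0093

/-! Klinger–Mason: the critical subgroup of `O₂(C(t))` and the subgroups `[C_C(B), A]`. -/

set_option autoImplicit false
set_option linter.unusedSectionVars false

namespace Cfsg.Agent.KM

open Subgroup Cfsg Cfsg.Agent.PLocal Cfsg.Agent.PLocal.Amb
open Cfsg.Agent.PLocal.CP (IsCharP)
open Cfsg.Agent.PLocal.Sig (Hyp)
open scoped commutatorElement

variable {G : Type*} [Group G] [Finite G] {p : ℕ} [hp : Fact p.Prime]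

theorem mem_zpowers_inv {t x : G} (ht : t * t = 1) : x ∈ zpowers t ↔ x = 1 ∨ x = t := by
  constructor
  · rintro ⟨k, rfl⟩
    rcases Int.even_or_odd' k with ⟨j, rfl | rfl⟩
    · left; simp only [zpow_mul, zpow_two, ht, one_zpow]
    · right; simp only [zpow_add, zpow_mul, zpow_two, ht, one_zpow, one_mul, zpow_one]
  · rintro (rfl | rfl)
    exacts [one_mem _, mem_zpowers _]

theorem exists_inv_pow {g : G} (h1 : g ≠ 1) {k : ℕ} (h : g ^ 2 ^ k = 1) :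
    ∃ m : ℕ, g ^ m ≠ 1 ∧ g ^ m * g ^ m = 1 := by
  induction k with
  | zero => exact absurd (by simpa using h) h1
  | succ k ih =>
    by_cases e : g ^ 2 ^ k = 1
    · exact ih e
    · exact ⟨2 ^ k, e, by rw [← pow_add, ← two_mul, ← pow_succ', h]⟩

theorem cent_of_inv {X : Subgroup G} (hX : IsPGroup 2 X) (hc : X ≤ 𝐂[X]) {g : G} (hg : g ∈ 𝐍[X])
    (ho : (orderOf g).Coprime 2) (h : ∀ x ∈ X, x * x = 1 → g * x = x * g) : g ∈ 𝐂[X] := by
  have key : ∀ k : ℕ, ∀ x ∈ X, x ^ 2 ^ k = 1 → g * x = x * g := by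
    intro k
    induction k with
    | zero => intro x _ h; rw [pow_zero, pow_one] at h; rw [h, one_mul, mul_one]
    | succ k ih =>
      intro x hx hk
      have h1 := ih (x ^ 2) (pow_mem hx 2) (by rw [← pow_mul, ← pow_succ', hk])
      have hx' := conj_mem_of_mem_normalizer hg hx
      have cm : Commute (g * x * g⁻¹) x⁻¹ := hc (inv_mem hx) _ hx'
      have h2 : ⁅g, x⁆ ^ 2 = 1 := by
        rw [commutatorElement_def, cm.mul_pow, conj_pow, h1, mul_inv_cancel_right,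
          inv_pow, mul_inv_cancel]
      exact CP.commute_of_commutator_pElem (p := 2) (k := 1) ho
        (h _ (mul_mem hx' (inv_mem hx)) (by rw [← pow_two]; exact h2)) (by rw [pow_one, h2])
  intro x hx
  obtain ⟨k, hk⟩ := Amb.isPGroup_iff.1 hX x hx
  exact (key k x hx hk).symm

theorem comm_zpowers_le {X K : Subgroup G} {b : G} (hb : b ∈ K)
    (h : ∀ u ∈ X, ∀ k ∈ K, u * k * u⁻¹ ∈ K) : ⁅X, zpowers b⁆ ≤ K :=
  commutator_le.2 fun u hu _ hk =>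
    mul_mem (h u hu _ (zpowers_le.2 hb hk)) (inv_mem (zpowers_le.2 hb hk))

theorem hyp_symm {A B B' : Subgroup G} (h : Hyp p B A) (h' : Hyp p B' A) {b : G} (hb : b ∈ B)
    (hb' : b ∉ B') : ∃ a ∈ B', a ∉ B := by
  by_contra e
  push Not at e
  exact h.ne (h'.eq_of_lt (lt_of_le_of_ne e fun e' => hb' (e' ▸ hb)) h.1)

theorem comm_hyp_le {A B X L : Subgroup G} (hB : Hyp p B A) (hX : X ≤ 𝐂[B]) (hL : A ≤ 𝐍[L]) {a : G}
    (ha : a ∈ A) (haB : a ∉ B) (h : ∀ u ∈ X, ⁅u, a⁆ ∈ L) : ⁅X, A⁆ ≤ L := by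
  let S : Subgroup G :=
    { carrier := {g | g ∈ A ∧ ∀ u ∈ X, ⁅u, g⁆ ∈ L}
      one_mem' := ⟨one_mem _, fun u _ => by simp⟩
      mul_mem' := fun {g k} hg hk => ⟨mul_mem hg.1 hk.1, fun u hu => by
        rw [show ⁅u, g * k⁆ = ⁅u, g⁆ * (g * ⁅u, k⁆ * g⁻¹) by simp only [commutatorElement_def]; group]
        exact mul_mem (hg.2 u hu) (conj_mem_of_mem_normalizer (hL hg.1) (hk.2 u hu))⟩
      inv_mem' := fun {g} hg => ⟨inv_mem hg.1, fun u hu => by
        rw [show ⁅u, g⁻¹⁆ = g⁻¹ * ⁅u, g⁆⁻¹ * g by simp only [commutatorElement_def]; group]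
        exact inv_conj_mem_of_mem_normalizer (hL hg.1) (inv_mem (hg.2 u hu))⟩ }
  have : A ≤ S := by
    rw [← hB.sup_zpowers ha haB]
    refine sup_le (fun b hb => ⟨hB.1 hb, fun u hu => ?_⟩) (zpowers_le.2 ⟨ha, h⟩)
    rw [commutatorElement_eq_one_iff_mul_comm.2 (hX hu b hb).symm]
    exact one_mem _
  exact commutator_le.2 fun u hu g hg => (this hg).2 u hu

/-- `T = O₂(C(t))` and a critical subgroup `C` of `T`. -/
structure Cr (t : G) (T C : Subgroup G) : Prop where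
  pT : IsPGroup 2 T
  nT : centralizer {t} ≤ 𝐍[T]
  Tle : T ≤ centralizer {t}
  tT : t ∈ T
  le : C ≤ T
  nC : centralizer {t} ≤ 𝐍[C]
  sq : ∀ c ∈ C, c * c ∈ 𝐂[C]
  cm : ∀ c ∈ C, ∀ x ∈ T, ⁅c, x⁆ ∈ C ⊓ 𝐂[C]
  cent : ∀ x ∈ T, x ∈ 𝐂[C] → x ∈ C
  faith : ∀ g ∈ centralizer {t}, (orderOf g).Coprime 2 → g ∈ 𝐂[C] → g = 1

theorem exists_cr {t : G} (ht : t * t = 1) (h : IsCharP 2 (centralizer {t})) : ∃ T C, Cr t T C := by
  haveI : Fact (Nat.Prime 2) := ⟨Nat.prime_two⟩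
  set T := pCoreOf 2 (centralizer ({t} : Set G)) with hT
  have pT : IsPGroup 2 T := CP.isPGroup_pCoreOf _ _
  have nT : centralizer {t} ≤ 𝐍[T] := CP.le_normalizer_pCoreOf _ _
  obtain ⟨H, hH, h1, h2, h3⟩ := S0093.result pT
  have cent : ∀ x ∈ T, x ∈ 𝐂[H.map T.subtype] → x ∈ H.map T.subtype := fun x hx hc =>
    ⟨⟨x, hx⟩, h3 fun y hy => Subtype.ext (hc _ ⟨y, hy, rfl⟩), rfl⟩
  have nC := nT.trans (CP.normalizer_le_normalizer_map_subtype T H)
  have cl : ∀ z : T, z ∈ 𝐂[H] → (z : G) ∈ 𝐂[H.map T.subtype] := by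
    rintro z hz _ ⟨y, hy, rfl⟩
    exact congrArg Subtype.val (hz y hy)
  refine ⟨T, H.map T.subtype, pT, nT, CP.pCoreOf_le _ _, ?_, map_subtype_le _, nC, ?_, ?_, cent,
    fun g hg ho hc => h.eq_one hg ho ?_⟩
  · refine CP.le_pCoreOf (zpowers_le.2 (mem_centralizer_singleton_iff.2 rfl)) ?_
      (isPGroup_zpowers ⟨1, by rw [pow_one, pow_two, ht]⟩) (mem_zpowers t)
    rw [← Amb.centralizer_zpowers]
    exact centralizer_le_normalizer' _
  · rintro _ ⟨c, hc, rfl⟩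
    have := cl _ (h1 ⟨_, Grp.PFrattini.pow_mem_frattini (pT.to_subgroup H) ⟨c, hc⟩, rfl⟩)
    rw [← pow_two]
    exact this
  · rintro _ ⟨c, hc, rfl⟩ x hx
    have := h2 (commutator_mem_commutator hc (mem_top ⟨x, hx⟩))
    exact ⟨⟨_, this.1, rfl⟩, cl _ this.2⟩
  · refine CP.mem_centralizer_of_commutator_mem (pT.to_le (map_subtype_le H)) ho hc fun r hr => ?_
    refine cent _ (mul_mem (conj_mem_of_mem_normalizer (nT hg) hr) (inv_mem hr)) ?_
    rw [commutatorElement_def, mul_assoc, mul_assoc, ← mul_assoc r]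
    exact mul_mem hc (conj_mem_of_mem_normalizer
      (Amb.le_normalizer_centralizer ((CP.pCoreOf_le _ _).trans nC) hr) (inv_mem hc))

/-- A maximal pair `(t, A)`. -/
structure MP (p n : ℕ) (A : Subgroup G) (t : G) (T C : Subgroup G) : Prop where
  ctx : Ctx G p n
  ea : IsElementaryAbelian p A
  two : p ^ 2 ≤ Nat.card A
  mx : n ≤ Nat.card A
  ne : t ≠ 1
  tt : t * t = 1
  ct : t ∈ 𝐂[A]
  cr : Cr t T C

namespace MP

variable {n : ℕ} {A T C : Subgroup G} {t : G} (m : MP p n A t T C)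
include m

theorem A_le : A ≤ centralizer {t} := fun a ha => mem_centralizer_singleton_iff.2 (m.ct a ha)

theorem comm_t {x : G} (hx : x ∈ T) : x * t = t * x := mem_centralizer_singleton_iff.1 (m.cr.Tle hx)

theorem t_mem : t ∈ C ⊓ 𝐂[C] :=
  have : t ∈ 𝐂[C] := fun _ hx => m.comm_t (m.cr.le hx)
  ⟨m.cr.cent t m.cr.tT this, this⟩

theorem nZ : centralizer {t} ≤ 𝐍[C ⊓ 𝐂[C]] :=
  Amb.le_normalizer_inf m.cr.nC (Amb.le_normalizer_centralizer m.cr.nC)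

theorem pZ : IsPGroup 2 ↥(C ⊓ 𝐂[C]) := m.cr.pT.to_le (inf_le_left.trans m.cr.le)

theorem Z_le : C ⊓ 𝐂[C] ≤ 𝐂[A] :=
  m.ctx.cent_ab m.ea m.two m.mx m.pZ (inf_le_right.trans (centralizer_anti inf_le_left))
    (m.A_le.trans m.nZ) m.t_mem m.ne m.tt m.ct

theorem eq_t {z : G} (hz : z ∈ T) (hA : z ∈ 𝐂[A]) (h : z * z = 1) : z ∈ zpowers t := by
  rw [mem_zpowers_inv m.tt]
  by_cases e : z = 1
  · exact Or.inl e
  · exact Or.inr (m.ctx.eq_inv m.ea (Sig.ne_bot_of_pow_le (k := 1) m.two) m.mx h m.tt e m.ne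
      (m.comm_t hz) hA m.ct)

theorem Z_inv {z : G} (hz : z ∈ C ⊓ 𝐂[C]) (h : z * z = 1) : z ∈ zpowers t :=
  m.eq_t (m.cr.le hz.1) (m.Z_le hz) h

theorem odd_cent {g : G} (hg : g ∈ centralizer {t}) (ho : (orderOf g).Coprime 2) :
    g ∈ 𝐂[C ⊓ 𝐂[C]] :=
  cent_of_inv m.pZ (inf_le_right.trans (centralizer_anti inf_le_left)) (m.nZ hg) ho fun x hx h => by
    rcases (mem_zpowers_inv m.tt).1 (m.Z_inv hx h) with rfl | rfl
    · simp
    · exact mem_centralizer_singleton_iff.1 hg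

theorem comm_mem {c x : G} (hc : c ∈ C) (hx : x ∈ T) (h : c * c * x = x * (c * c)) :
    ⁅c, x⁆ ∈ zpowers t := by
  have h1 := m.cr.cm c hc x hx
  refine m.Z_inv h1 ?_
  rw [← pow_two, ← Grp.CommPow.commutator_pow_left (Commute.symm (h1.2 c hc)), pow_two,
    commutatorElement_eq_one_iff_mul_comm, h]

theorem comm_mem' {c x : G} (hc : c ∈ C) (hx : x ∈ C) : ⁅c, x⁆ ∈ zpowers t :=
  m.comm_mem hc (m.cr.le hx) (m.cr.sq c hc x hx).symm

theorem zp_comm {z x : G} (hz : z ∈ zpowers t) (hx : x ∈ centralizer {t}) : z * x = x * z := by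
  rcases (mem_zpowers_inv m.tt).1 hz with rfl | rfl
  · simp
  · exact (mem_centralizer_singleton_iff.1 hx).symm

theorem mul_sq {x y : G} (hx : x ∈ C) (hy : y ∈ C) :
    x * y * (x * y) = ⁅x⁻¹, y⁆ * (x * x * (y * y)) := by
  have h := m.zp_comm (m.comm_mem' (inv_mem hx) hy) (m.cr.Tle (m.cr.le hx))
  calc x * y * (x * y) = x * (x * ⁅x⁻¹, y⁆) * (y * y) := by
        simp only [commutatorElement_def]; group
    _ = _ := by rw [← h, ← mul_assoc x, ← h]; simp only [mul_assoc]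

/-- the elements of `C` with square in `⟨t⟩` -/
def C2 : Subgroup G where
  carrier := {c | c ∈ C ∧ c * c ∈ zpowers t}
  one_mem' := ⟨one_mem _, by simp⟩
  mul_mem' := fun {x y} hx hy => ⟨mul_mem hx.1 hy.1, by
    rw [m.mul_sq hx.1 hy.1]
    exact mul_mem (m.comm_mem' (inv_mem hx.1) hy.1) (mul_mem hx.2 hy.2)⟩
  inv_mem' := fun {x} hx => ⟨inv_mem hx.1, by rw [← mul_inv_rev]; exact inv_mem hx.2⟩

theorem comm_C2 {c x : G} (hc : c ∈ m.C2) (hx : x ∈ T) : ⁅c, x⁆ ∈ zpowers t :=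
  m.comm_mem hc.1 hx (m.zp_comm hc.2 (m.cr.Tle hx))

theorem comm_A {c a : G} (hc : c ∈ C) (ha : a ∈ A) : ⁅c, a⁆ ∈ m.C2 := by
  have h1 : a * c⁻¹ * a⁻¹ ∈ C := conj_mem_of_mem_normalizer (m.cr.nC (m.A_le ha)) (inv_mem hc)
  have e : ⁅c, a⁆ = c * (a * c⁻¹ * a⁻¹) := by simp only [commutatorElement_def, mul_assoc]
  rw [e]
  refine ⟨mul_mem hc h1, ?_⟩
  have h2 := m.Z_le (show c⁻¹ * c⁻¹ ∈ C ⊓ 𝐂[C] from
    ⟨C.mul_mem (C.inv_mem hc) (C.inv_mem hc), m.cr.sq _ (C.inv_mem hc)⟩) a ha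
  rw [m.mul_sq hc h1, conj_mul, h2, mul_inv_cancel_right, ← mul_inv_rev, mul_inv_cancel, mul_one]
  exact m.comm_mem' (inv_mem hc) h1

theorem cent_C2 {f : G} (hf : f ∈ T) (h : f ∈ 𝐂[m.C2]) : f ∈ 𝐂[A] := by
  intro a ha
  have hf' := conj_mem_of_mem_normalizer (m.cr.nT (m.A_le ha)) hf
  have k0 : ∀ d ∈ C, a * f * a⁻¹ * d * (a * f * a⁻¹)⁻¹ = f * d * f⁻¹ := by
    intro d hd
    have hza := m.Z_le (inv_mem (m.cr.cm d hd _ hf)) a ha
    have he := h _ (m.comm_A (inv_mem hd) (inv_mem ha))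
    calc a * f * a⁻¹ * d * (a * f * a⁻¹)⁻¹
        = a * (f * d * (⁅d⁻¹, a⁻¹⁆ * f⁻¹)) * a⁻¹ := by simp only [commutatorElement_def]; group
      _ = a * (f * d * (f⁻¹ * ⁅d⁻¹, a⁻¹⁆)) * a⁻¹ := by rw [(Commute.inv_right he).eq]
      _ = (a * ⁅d, f⁆⁻¹) * a⁻¹ * d := by simp only [commutatorElement_def]; group
      _ = _ := by rw [hza]; simp only [commutatorElement_def]; group
  have key : ⁅a, f⁆ ∈ 𝐂[C] := by
    intro c hc
    have := k0 _ (inv_conj_mem_of_mem_normalizer (m.cr.nC (m.cr.Tle hf)) hc)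
    calc c * ⁅a, f⁆ = f * (f⁻¹ * c * f) * f⁻¹ * ⁅a, f⁆ := by group
      _ = _ := by rw [← this]; simp only [commutatorElement_def]; group
  exact CP.commute_of_commutator_mem (p := 2) m.pZ (coprime_two' m.ctx.ne (m.ea.2 a ha))
    (le_centralizer_iff.1 m.Z_le ha) ⟨m.cr.cent _ (mul_mem hf' (inv_mem hf)) key, key⟩

theorem nX {B : Subgroup G} (hB : B ≤ A) : A ≤ 𝐍[C ⊓ 𝐂[B]] :=
  Amb.le_normalizer_inf (m.A_le.trans m.cr.nC) (Sig.ea_norm_cent m.ea hB)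

theorem U_le {B : Subgroup G} (hB : B ≤ A) : ⁅C ⊓ 𝐂[B], A⁆ ≤ m.C2 ⊓ 𝐂[B] :=
  commutator_le.2 fun u hu a ha => ⟨m.comm_A hu.1 ha, by
    have := Sig.ea_le_cent m.ea hB ha
    have hu2 : u ∈ 𝐂[B] := hu.2
    show u * a * u⁻¹ * a⁻¹ ∈ 𝐂[B]
    exact mul_mem (mul_mem (mul_mem hu2 this) (inv_mem hu2)) (inv_mem this)⟩

theorem U_comm {B B' : Subgroup G} (hB : Hyp p B A) (hB' : B' ≤ A) {a : G} (ha : a ∈ B')
    (haB : a ∉ B) : ⁅C ⊓ 𝐂[B], A⁆ ≤ 𝐂[C ⊓ 𝐂[B']] := by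
  refine comm_hyp_le hB inf_le_right (Amb.le_normalizer_centralizer (m.nX hB')) (hB' ha) haB
    fun u hu v hv => ?_
  have h1 : a * v = v * a := hv.2 a ha
  have hz := m.comm_mem' (inv_mem hu.1) hv.1
  have h2 := m.zp_comm hz (m.A_le (hB' ha))
  have h3 : u⁻¹ * v * u = ⁅u⁻¹, v⁆ * v := by simp only [commutatorElement_def]; group
  have h4 : a * (u⁻¹ * v * u) = u⁻¹ * v * u * a := by
    rw [h3, ← mul_assoc, ← h2, mul_assoc, h1, mul_assoc]
  calc v * ⁅u, a⁆ = u * (u⁻¹ * v * u * a) * u⁻¹ * a⁻¹ := by simp only [commutatorElement_def]; group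
    _ = u * a * u⁻¹ * (v * a⁻¹) := by rw [← h4]; group
    _ = _ := by rw [← (Commute.inv_left h1).eq]; simp only [commutatorElement_def]; group

theorem U_le_comm {B : Subgroup G} (hB : Hyp p B A) {a : G} (ha : a ∈ A) (haB : a ∉ B) :
    ⁅C ⊓ 𝐂[B], A⁆ ≤ ⁅C ⊓ 𝐂[B], zpowers a⁆ :=
  comm_hyp_le hB inf_le_right
    (Amb.le_normalizer_commutator (m.nX hB.1) (Sig.ea_norm m.ea (zpowers_le.2 ha))) ha haB
    fun _ hu => commutator_mem_commutator hu (mem_zpowers a)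

/-- `[C_C(B), A]` contains a quaternion group. -/
theorem quat {B : Subgroup G} (hB : B ≤ A) (hn : ¬ C ⊓ 𝐂[B] ≤ 𝐂[A]) :
    ∃ i ∈ ⁅C ⊓ 𝐂[B], A⁆, ∃ j ∈ ⁅C ⊓ 𝐂[B], A⁆, i * i = t ∧ j * j = t ∧ i * j = t * (j * i) := by
  set U := ⁅C ⊓ 𝐂[B], A⁆ with hU
  have UC : U ≤ C := fun x hx => (m.U_le hB hx).1.1
  have UT : U ≤ T := UC.trans m.cr.le
  have pU : IsPGroup 2 U := m.cr.pT.to_le UT
  have nU : A ≤ 𝐍[U] := Amb.le_normalizer_commutator (m.nX hB) le_normalizer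
  have odd : ∀ a ∈ A, (orderOf a).Coprime 2 := fun a ha => coprime_two' m.ctx.ne (m.ea.2 a ha)
  have sq : ∀ x ∈ U, x * x = 1 ∨ x * x = t := fun x hx =>
    (mem_zpowers_inv m.tt).1 (m.U_le hB hx).1.2
  have nc : ¬ U ≤ 𝐂[A] := fun h => hn fun x hx a ha =>
    CP.commute_of_commutator_mem pU (odd a ha) (le_centralizer_iff.1 h ha) (by
      rw [← commutatorElement_inv]; exact inv_mem (commutator_mem_commutator hx ha))
  -- abelian `A`-invariant subgroups of `T` are centralized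
  have ab : ∀ X : Subgroup G, X ≤ T → X ≤ 𝐂[X] → A ≤ 𝐍[X] → X ≤ 𝐂[A] := by
    intro X h1 h2 h3
    have tX : zpowers t ≤ 𝐂[X] := zpowers_le.2 fun x hx => m.comm_t (h1 hx)
    refine le_sup_left.trans (m.ctx.cent_ab m.ea m.two m.mx (X := X ⊔ zpowers t)
      (m.cr.pT.to_le (sup_le h1 (zpowers_le.2 m.cr.tT))) ?_ (Amb.le_normalizer_sup h3 ?_)
      ((le_sup_right : zpowers t ≤ _) (mem_zpowers t)) m.ne m.tt m.ct)
    · rw [Amb.centralizer_sup]
      exact sup_le (le_inf h2 (le_centralizer_iff.1 tX)) (le_inf tX (Subgroup.le_centralizer _))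
    · refine le_trans ?_ (centralizer_le_normalizer' _)
      rw [Amb.centralizer_zpowers]; exact m.A_le
  by_contra hh
  push Not at hh
  have cm : ∀ i ∈ U, ∀ j ∈ U, i * i = t → j * j = t → i * j = j * i := by
    intro i hi j hj e1 e2
    rcases (mem_zpowers_inv m.tt).1 (m.comm_mem' (UC hi) (UC hj)) with e | e
    · exact commutatorElement_eq_one_iff_mul_comm.1 e
    · exact absurd (by rw [← e, commutatorElement_def]; group) (hh i hi j hj e1 e2)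
  obtain ⟨i, hi, ii⟩ : ∃ i ∈ U, i * i = t := by
    by_contra h
    push Not at h
    have s1 : ∀ x ∈ U, x * x = 1 := fun x hx => (sq x hx).resolve_right (h x hx)
    refine nc (ab U UT (fun x hx y hy => ?_) nU)
    have e := s1 _ (mul_mem hy hx)
    rw [← inv_eq_of_mul_eq_one_right e, mul_inv_rev, inv_eq_of_mul_eq_one_right (s1 x hx),
      inv_eq_of_mul_eq_one_right (s1 y hy)]
  set X := closure {x | x ∈ U ∧ x * x = t} with hX
  have XU : X ≤ U := (closure_le _).2 fun x hx => hx.1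
  have XA : X ≤ 𝐂[A] := by
    refine ab X (XU.trans UT) ?_ fun a ha => CP.mem_normalizer_of_conj_mem fun x hx => ?_
    · rw [hX, Subgroup.centralizer_closure, closure_le]
      exact fun x hx y hy => cm y hy.1 x hx.1 hy.2 hx.2
    · induction hx using closure_induction with
      | mem x hx =>
        exact subset_closure ⟨conj_mem_of_mem_normalizer (nU ha) hx.1, by
          rw [conj_mul, hx.2, m.ct a ha, mul_inv_cancel_right]⟩
      | one => simp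
      | mul x y _ _ h1 h2 => rw [← conj_mul]; exact mul_mem h1 h2
      | inv x _ h1 => rw [← conj_inv]; exact inv_mem h1
  have iX : i ∈ X := subset_closure ⟨hi, ii⟩
  have Y : ∀ x ∈ U, x * i = i * x → x ∈ X := by
    intro x hx h
    rcases sq x hx with e | e
    · have : x * i ∈ X := subset_closure ⟨mul_mem hx hi, by
        rw [mul_assoc, ← mul_assoc i, ← h, mul_assoc, ← mul_assoc x x, e, one_mul, ii]⟩
      simpa using mul_mem this (inv_mem iX)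
    · exact subset_closure ⟨hx, e⟩
  refine nc fun u hu a ha => CP.commute_of_commutator_mem (pU.to_le XU) (odd a ha)
    (le_centralizer_iff.1 XA ha) (Y _ (mul_mem (conj_mem_of_mem_normalizer (nU ha) hu) (inv_mem hu)) ?_)
  have ia : a * i = i * a := XA iX a ha
  have hz := m.comm_mem' (inv_mem (UC hu)) (UC hi)
  have h2 := m.zp_comm hz (m.A_le ha)
  have h3 : u⁻¹ * i * u = ⁅u⁻¹, i⁆ * i := by simp only [commutatorElement_def]; group
  have h4 : a⁻¹ * (u⁻¹ * i * u) * a = u⁻¹ * i * u := by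
    rw [h3, mul_assoc, mul_assoc, ← ia, ← mul_assoc _ a, h2]; group
  calc a * u * a⁻¹ * u⁻¹ * i = a * u * (a⁻¹ * (u⁻¹ * i * u) * a) * a⁻¹ * u⁻¹ := by group
    _ = (a * i) * u * a⁻¹ * u⁻¹ := by rw [h4]; group
    _ = _ := by rw [ia]; group

theorem exists_hyp {a : G} (ha : a ∈ A) (a1 : a ≠ 1) :
    ∃ B, Hyp p B A ∧ a ∉ B ∧ ¬ C ⊓ 𝐂[B] ≤ 𝐂[A] := by
  haveI : Fact (Nat.Prime 2) := ⟨Nat.prime_two⟩
  have : ¬ C ≤ centralizer {a} := fun h => a1 (m.cr.faith a (m.A_le ha)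
    (coprime_two' m.ctx.ne (m.ea.2 a ha)) fun x hx => mem_centralizer_singleton_iff.1 (h hx))
  obtain ⟨B, hB, h⟩ := Sig.exists_hyp_not_le m.ea (Sig.ne_bot_of_pow_le (k := 1) m.two)
    (m.A_le.trans m.cr.nC) (Sig.not_dvd_of_isPGroup m.ctx.ne.symm (m.cr.pT.to_le m.cr.le)) this
  exact ⟨B, hB, fun e => h fun x hx => mem_centralizer_singleton_iff.2 (hx.2 a e).symm,
    fun e => h fun x hx => mem_centralizer_singleton_iff.2 (e hx a ha).symm⟩

end MP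

end Cfsg.Agent.KM
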